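/-
Project PC2 (S4136, helper79): groups whose primary elements have centralisers with the same 2-part.  Definitions.
-/
import Cfsg.Agent.Cit.CT
import Cfsg.Agent.Cit.PG

set_option autoImplicit false

open Cfsg Subgroup

namespace CL.PC2

universe u

variable {X : Type*} [Group X]

/-- the elements of odd order of `H` are closed under multiplication (`H` has a normal 2-complement) -/
def N2 (H : Subgroup X) : Prop := ∀ a ∈ H, ∀ b ∈ H, Odd (orderOf a) → Odd (orderOf b) → Odd (orderOf (a * b))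

theorem N2.mono {H K : Subgroup X} (h : N2 H) (k : K ≤ H) : N2 K := fun a ha b hb => h a (k ha) b (k hb)

/-- the subgroup of the elements of odd order -/
def N2.od {H : Subgroup X} (h : N2 H) : Subgroup X where
  carrier := {a | a ∈ H ∧ Odd (orderOf a)}
  one_mem' := ⟨one_mem _, by simp⟩
  mul_mem' := fun ha hb => ⟨mul_mem ha.1 hb.1, h _ ha.1 _ hb.1 ha.2 hb.2⟩
  inv_mem' := fun ha => ⟨inv_mem ha.1, by rw [orderOf_inv]; exact ha.2⟩

theorem N2.mem_od {H : Subgroup X} (h : N2 H) {a : X} : a ∈ h.od ↔ a ∈ H ∧ Odd (orderOf a) := Iff.rfl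

theorem N2.od_le {H : Subgroup X} (h : N2 H) : h.od ≤ H := fun _ ha => ha.1

theorem N2.conj_mem_od {H : Subgroup X} (h : N2 H) {g a : X} (hg : g ∈ H) (ha : a ∈ h.od) : g * a * g⁻¹ ∈ h.od :=
  ⟨mul_mem (mul_mem hg ha.1) (inv_mem hg), by
    rw [show orderOf (g * a * g⁻¹) = orderOf a from (MulAut.conj g).orderOf_eq a]; exact ha.2⟩

theorem N2.odd_card [Finite X] {H : Subgroup X} (h : N2 H) : Odd (Nat.card h.od) := by
  by_contra k
  have : Fact (Nat.Prime 2) := ⟨Nat.prime_two⟩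
  obtain ⟨t, ht⟩ := exists_prime_orderOf_dvd_card' (G := h.od) 2 (even_iff_two_dvd.1 (Nat.not_odd_iff_even.1 k))
  have := t.2.2
  rw [Subgroup.orderOf_coe, ht] at this
  exact absurd this (by decide)

theorem n2_of_odd [Finite X] {H O : Subgroup X} (hO : Odd (Nat.card O)) (h : ∀ a ∈ H, Odd (orderOf a) → a ∈ O) : N2 H :=
  fun a ha b hb h1 h2 => hO.of_dvd_nat (Subgroup.orderOf_dvd_natCard O (mul_mem (h a ha h1) (h b hb h2)))

/-- the fixed points of an automorphism -/
def Fix (φ : MulAut X) : Subgroup X := MonoidHom.eqLocus φ.toMonoidHom (MonoidHom.id X)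

theorem mem_Fix {φ : MulAut X} {a : X} : a ∈ Fix φ ↔ φ a = a := Iff.rfl

theorem card_Fix_mod [Finite X] {φ : MulAut X} (h : φ * φ = 1) : Nat.card (Fix φ) % 2 = Nat.card X % 2 := by
  have : Fact (Nat.Prime 2) := ⟨Nat.prime_two⟩
  have hp : IsPGroup 2 (zpowers φ) := fun ⟨x, k, hk⟩ => ⟨1, Subtype.ext (by
    simp only [← hk, pow_one, SubmonoidClass.mk_pow, OneMemClass.coe_one]
    rw [← zpow_natCast, ← zpow_mul, mul_comm, zpow_mul, zpow_natCast, pow_two, h, one_zpow])⟩
  refine Eq.trans ?_ (hp.card_modEq_card_fixedPoints X).symm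
  congr 1
  refine Nat.card_congr (Equiv.setCongr (Set.ext fun a => ⟨fun k ⟨x, hx⟩ => ?_, fun k => k ⟨φ, mem_zpowers φ⟩⟩))
  exact (zpowers_le (H := MulAction.stabilizer (MulAut X) a)).2 k hx

/-- some element of odd prime order is fixed by no automorphism of order at most two with 2-nilpotent fixed points -/
def Good (X : Type*) [Group X] : Prop :=
  ∃ w : X, (orderOf w).Prime ∧ Odd (orderOf w) ∧ ∀ φ : MulAut X, φ * φ = 1 → φ w = w → ¬ N2 (Fix φ)

theorem Good.of_equiv {Y : Type*} [Group Y] (h : Good Y) (e : X ≃* Y) : Good X := by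
  obtain ⟨w, h1, h2, h3⟩ := h
  refine ⟨e.symm w, by rwa [e.symm.orderOf_eq], by rwa [e.symm.orderOf_eq], fun φ k1 k2 k3 => ?_⟩
  refine h3 (MulAut.congr e φ) (by rw [← map_mul, k1, map_one]) (by simp [k2]) fun a ha b hb o1 o2 => ?_
  have m : ∀ a, a ∈ Fix (MulAut.congr e φ) → e.symm a ∈ Fix φ := fun a ha => e.injective (by
    simpa using (mem_Fix.1 ha))
  have := k3 _ (m a ha) _ (m b hb) (by rwa [e.symm.orderOf_eq]) (by rwa [e.symm.orderOf_eq])
  rwa [← map_mul, e.symm.orderOf_eq] at this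

/-- `L₂(q)`, `q > 3` odd or `q = 4` -/
def GA : Prop := ∀ (F : Type) [Field F] [Fintype F], 3 < Fintype.card F → Odd (Fintype.card F) ∨ Fintype.card F = 4 →
  Good (Matrix.ProjectiveSpecialLinearGroup (Fin 2) F)
/-- `L₂(q)`, `q > 4` even -/
def GB : Prop := ∀ (F : Type) [Field F] [Fintype F], 4 < Fintype.card F → Even (Fintype.card F) →
  Good (Matrix.ProjectiveSpecialLinearGroup (Fin 2) F)
/-- the Suzuki groups -/
def GS : Prop := ∀ (X : Type u) [Group X] [Finite X], Lie.IsoSuzuki X → Good X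
/-- criterion Q: a CIT-group with an elementary abelian group of order at least 8 in the centre of a Sylow subgroup -/
def GQ : Prop := ∀ (X : Type u) [Group X] [Finite X], CL.Cit.IsCIT X → ¬ IsPGroup 2 X →
  (∃ S : Sylow 2 X, 8 ≤ Nat.card {z : X | z ∈ S ∧ z * z = 1 ∧ ∀ s ∈ S, s * z = z * s}) → Good X
/-- criterion R: a Sylow subgroup of prime order normalised by no involution -/
def GR : Prop := ∀ (X : Type) [Group X] [Finite X] (w : X), Even (Nat.card X) → (orderOf w).Prime → Odd (orderOf w) →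
  ¬ orderOf w ^ 2 ∣ Nat.card X → (∀ t : X, orderOf t = 2 → t * w * t⁻¹ ≠ w ∧ t * w * t⁻¹ ≠ w⁻¹) → Good X
/-- `A₇` -/
def G7 : Prop := Good (alternatingGroup (Fin 7))
/-- `L₃(4)` -/
def G34 : Prop := ∀ (F : Type) [Field F] [Fintype F], Fintype.card F = 4 →
  Good (Matrix.ProjectiveSpecialLinearGroup (Fin 3) F)

end CL.PC2
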