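/-
Project PC2 (S4136): the groups `L₂(q)`, `q` odd or `q = 4`.
-/
import Cfsg.Agent.PC2.Defs
import Cfsg.Agent.Cls.SL2PSL

set_option autoImplicit false

open Cfsg Subgroup
open scoped Pointwise

namespace CL.PC2

namespace Ax

variable {X : Type*} [Group X] {r : ℕ} [Fact r.Prime]

theorem aut_smul (φ : MulAut X) (g : X) (P : Sylow r X) : φ • g • P = φ g • φ • P := by
  rw [Sylow.smul_def, Sylow.smul_def, smul_smul, smul_smul]
  congr 1
  ext x
  simp

variable (ti : ∀ P Q : Sylow r X, P ≠ Q → (P : Subgroup X) ⊓ Q = ⊥)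
include ti

theorem free {P Q : Sylow r X} (h : Q ≠ P) {u v : X} (hu : u ∈ (P : Subgroup X)) (hv : v ∈ (P : Subgroup X))
    (e : u • Q = v • Q) : u = v := by
  have h2 : v⁻¹ * u ∈ (P : Subgroup X) ⊓ normalizer (Q : Set X) := ⟨(P : Subgroup X).mul_mem (inv_mem hv) hu,
    Sylow.smul_eq_iff_mem_normalizer.1 (by rw [mul_smul, e, inv_smul_smul])⟩
  rw [P.isPGroup'.inf_normalizer_sylow, ti P Q h.symm] at h2
  exact (inv_mul_eq_one.1 h2).symm

variable [Finite X]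

theorem reg {P Q R : Sylow r X} (hn : Nat.card (Sylow r X) = Nat.card P + 1) (hQ : Q ≠ P) (hR : R ≠ P) :
    ∃ u ∈ (P : Subgroup X), u • Q = R := by
  have hf : Function.Bijective fun u : (P : Subgroup X) => (⟨(u : X) • Q, fun e => hQ (by
      rw [← inv_smul_smul (u : X) Q, show _ = P from e]
      exact Sylow.smul_eq_iff_mem_normalizer.2 (le_normalizer (inv_mem u.2)))⟩ : ({P}ᶜ : Set (Sylow r X))) := by
    refine (Nat.bijective_iff_injective_and_card _).2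
      ⟨fun u v e => Subtype.ext (free ti hQ u.2 v.2 (congrArg Subtype.val e)), ?_⟩
    have := Set.ncard_add_ncard_compl ({P} : Set (Sylow r X))
    rw [Set.ncard_singleton, hn] at this
    rw [Nat.card_coe_set_eq]
    change Nat.card P = _
    omega
  obtain ⟨u, hu⟩ := hf.2 ⟨R, hR⟩
  exact ⟨u, u.2, congrArg Subtype.val hu⟩

theorem goodP (hr : r ≠ 2) (U : Sylow r X) (hU : (U : Subgroup X) ≠ ⊥) (hn : Nat.card (Sylow r X) = Nat.card U + 1) :
    Good X := by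
  have pr : r.Prime := Fact.out
  have : Fact (Nat.Prime 2) := ⟨Nat.prime_two⟩
  have od : ∀ P : Sylow r X, Odd (Nat.card P) := fun P => by
    obtain ⟨k, hk⟩ := P.isPGroup'.exists_card_eq
    exact (show Nat.card P = _ from hk) ▸ (pr.odd_of_ne_two hr).pow
  obtain ⟨⟨w, wU⟩, hw⟩ := exists_prime_orderOf_dvd_card' (G := (U : Subgroup X)) r
    ((U.isPGroup'.card_eq_or_dvd).resolve_left fun e => hU (card_eq_one.1 e))
  rw [orderOf_mk] at hw
  refine ⟨w, hw ▸ pr, hw ▸ pr.odd_of_ne_two hr, fun φ h2 hφ h => ?_⟩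
  have w1 : w ≠ 1 := fun e => pr.one_lt.ne' (by rw [← hw, e, orderOf_one])
  have fU : φ • U = U := by
    by_contra e
    exact w1 (mem_bot.1 (ti _ _ e ▸ (⟨hφ ▸ smul_mem_pointwise_smul w φ _ wU, wU⟩ : w ∈ ((φ • U : Sylow r X) : Subgroup X) ⊓ U)))
  have hp : IsPGroup 2 (zpowers φ) := fun ⟨x, k, hk⟩ => ⟨1, Subtype.ext (by
    simp only [← hk, pow_one, SubmonoidClass.mk_pow, OneMemClass.coe_one]
    rw [← zpow_natCast, ← zpow_mul, mul_comm, zpow_mul, zpow_natCast, pow_two, h2, one_zpow])⟩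
  obtain ⟨U1, f1, n1⟩ := hp.exists_fixed_point_of_prime_dvd_card_of_fixed_point (Sylow r X)
    (hn ▸ (od U).add_one.two_dvd) (a := U) fun ⟨x, hx⟩ => (zpowers_le (H := MulAction.stabilizer (MulAut X) U)).2 fU hx
  replace f1 : φ • U1 = U1 := f1 ⟨φ, mem_zpowers φ⟩
  have key : ∀ {P Q R : Sylow r X}, φ • P = P → φ • Q = Q → φ • R = R → Q ≠ P → R ≠ P →
      ∃ u ∈ h.od, u • P = P ∧ u • Q = R := fun {P Q R} hP hQ hR k1 k2 => by
    obtain ⟨u, hu, e⟩ := reg ti (hn.trans (congrArg (· + 1) (Nat.card_congr (U.equiv P).toEquiv))) k1 k2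
    refine ⟨u, ⟨free ti k1 (hP ▸ smul_mem_pointwise_smul u φ _ hu) hu ?_, (od P).of_dvd_nat (orderOf_dvd_natCard _ hu)⟩,
      Sylow.smul_eq_iff_mem_normalizer.2 (le_normalizer hu), e⟩
    change φ u • Q = u • Q
    rw [e, ← hQ, ← aut_smul, e, hR]
  have wN : w • U = U := Sylow.smul_eq_iff_mem_normalizer.2 (le_normalizer wU)
  obtain ⟨a, ha, -, e1⟩ := key (P := w • U1) (by rw [aut_smul, hφ, f1]) fU f1
    (fun e => n1 (smul_left_cancel w (wN.trans e))) fun e => w1 (free ti n1.symm wU (one_mem _) (by rw [← e, one_smul]))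
  obtain ⟨b, hb, e2, e3⟩ := key (Q := a • U1) f1 (by rw [aut_smul, show φ a = a from ha.1, f1]) fU
    (fun e => n1 (smul_left_cancel a (e1.trans e.symm))) n1
  obtain ⟨k, hk⟩ := (mul_mem hb ha).2
  have e4 : ∀ k : ℕ, ((b * a) ^ 2) ^ k • U1 = U1 := fun k => pow_mem (S := MulAction.stabilizer X U1)
    (show (b * a) ^ 2 • U1 = U1 by rw [pow_two, mul_smul, mul_smul b a U1, e3, mul_smul, e1, e2]) k
  have := e4 k
  rw [← e2, ← e1, ← mul_smul b, ← mul_smul, ← pow_mul, ← pow_succ, ← hk, pow_orderOf_eq_one, one_smul, mul_smul, e1,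
    e2] at this
  exact n1 this

omit ti in
theorem odd (F : Type) [Field F] [Fintype F] (h : Odd (Fintype.card F)) :
    Good (Matrix.ProjectiveSpecialLinearGroup (Fin 2) F) := by
  obtain ⟨p, _, n, hp, hn⟩ := FiniteField.card' F
  have := Fact.mk hp
  obtain ⟨U, hU⟩ := (SL2.uhyp_psl (F := F) p).exists_sylow (SL2.Q_psl_ne_bot p SL2.pinf)
  refine goodP (r := p) (fun _ _ => (SL2.uhyp_psl p).sylow_inf) ?_ U (hU ▸ SL2.Q_psl_ne_bot p _) ?_
  · rintro rfl
    exact absurd ((Nat.odd_pow_iff n.pos.ne').1 (hn ▸ h)) (by decide)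
  · rw [(SL2.uhyp_psl p).card_sylow (SL2.Q_psl_ne_bot p), SL2.card_P1, ← SL2.card_Q_psl p SL2.pinf, ← hU]

end Ax

theorem ga : GA := fun F _ _ _ h => h.elim (Ax.odd F) fun h4 => by
  have : Fact (Nat.Prime 5) := ⟨by decide⟩
  obtain ⟨e⟩ := Cls.nonempty_PSL2_four h4
  obtain ⟨e'⟩ := Cls.nonempty_PSL2_five (ZMod.card 5)
  exact (Ax.odd (ZMod 5) (by rw [ZMod.card]; decide)).of_equiv (e.trans e'.symm)

end CL.PC2
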