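/-
Project PC2: the group `L₃(4)`.
-/
import Cfsg.Agent.PC2.Defs

set_option autoImplicit false
set_option linter.unusedSectionVars false

open Cfsg Subgroup Module

namespace CL.PC2

namespace L34

section Lin

variable {F V : Type} [Field F] [AddCommGroup V] [Module F V] [Finite F] [Finite V]

theorem fixc {a : End F V} (ha : a ^ 7 = 1) (W : Submodule F V) (hW : ∀ w ∈ W, a w ∈ W) :
    Nat.card W ≡ Nat.card (W ⊓ LinearMap.ker (a - 1) : Submodule F V) [MOD 7] := by
  classical
  have : Fact (Nat.Prime 7) := ⟨by norm_num⟩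
  have := Fintype.ofFinite W
  let f : Function.End W := fun w => ⟨a w, hW w w.2⟩
  have hf : ∀ (n : ℕ) (w : W), ((f ^ n) w : V) = (a ^ n) w := fun n w => by
    induction n with
    | zero => rfl
    | succ n ih => rw [pow_succ', pow_succ', End.mul_apply, ← ih]; rfl
  have h := Equiv.Perm.card_fixedPoints_modEq (f := f) (p := 7) (n := 1)
    (funext fun w => Subtype.ext (by rw [pow_one, hf, ha]; rfl))
  rw [← Nat.card_eq_fintype_card, ← Nat.card_eq_fintype_card] at h
  have m : ∀ v : V, v ∈ LinearMap.ker (a - 1) ↔ a v = v := fun v => by simp [sub_eq_zero]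
  rwa [← Nat.card_congr (α := f.fixedPoints) (β := (W ⊓ LinearMap.ker (a - 1) : Submodule F V))
    ⟨fun x => ⟨x.1, x.1.2, (m _).2 (congrArg Subtype.val (x.2 : f x.1 = x.1))⟩,
      fun y => ⟨⟨y.1, y.2.1⟩, Subtype.ext ((m _).1 y.2.2)⟩, fun _ => rfl, fun _ => rfl⟩]

theorem cd (hF : Nat.card F = 4) (W : Submodule F V) : Nat.card W = 4 ^ finrank F W :=
  hF ▸ natCard_eq_pow_finrank (K := F)

variable (hF : Nat.card F = 4) (hV : finrank F V = 3)
include hV

theorem rk_lt {a : End F V} (h : a ≠ 1) : finrank F (LinearMap.ker (a - 1)) < 3 :=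
  hV ▸ Submodule.finrank_lt fun e => h (sub_eq_zero.1 (LinearMap.ker_eq_top.1 e))

include hF

theorem ker7 {a : End F V} (ha : a ^ 7 = 1) (h : a ≠ 1) : LinearMap.ker (a - 1) = ⊥ := by
  have h1 := fixc ha ⊤ fun _ _ => trivial
  have h2 := rk_lt hV h
  rw [top_inf_eq, cd hF, cd hF, finrank_top, hV] at h1
  rw [← Submodule.finrank_eq_zero]
  generalize finrank F (LinearMap.ker (a - 1)) = j at h1 h2
  interval_cases j
  · rfl
  all_goals exact absurd h1 (by decide)

theorem ker2 {b : End F V} (hb : b * b = 1) : 2 ≤ finrank F (LinearMap.ker (b - 1)) := by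
  have h2 : (2 : F) = 0 := by
    have := Fintype.ofFinite F
    exact CL.Chev.Sz.two_eq_zero_of_card (n := 2) (Nat.card_eq_fintype_card.symm.trans hF)
  have h1 : LinearMap.range (b - 1) ≤ LinearMap.ker (b - 1) := by
    rintro _ ⟨v, rfl⟩
    have e : b (b v) = v := by rw [← End.mul_apply, hb]; rfl
    have e2 : ∀ x : V, x + x = 0 := fun x => by rw [← two_smul F, h2, zero_smul]
    simp only [LinearMap.mem_ker, LinearMap.sub_apply, map_sub, End.one_apply, e]
    calc v - b v - (b v - v) = v + v - (b v + b v) := by abel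
      _ = 0 := by rw [e2, e2, sub_zero]
  have h3 := LinearMap.finrank_range_add_finrank_ker (b - 1)
  have h4 := Submodule.finrank_mono h1
  omega

theorem lin {a b : End F V} (ha : a ^ 7 = 1) (a1 : a ≠ 1) (hb : b * b = 1) (b1 : b ≠ 1) :
    b * a ≠ a * b ∧ b * a * (b * a) ≠ 1 := by
  have k := ker7 hF hV ha a1
  refine ⟨fun e => ?_, fun e => ?_⟩
  · have h1 := fixc ha (LinearMap.ker (b - 1)) fun w hw => by
      simp only [LinearMap.mem_ker, LinearMap.sub_apply, End.one_apply, sub_eq_zero] at hw ⊢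
      rw [← End.mul_apply, e, End.mul_apply, hw]
    rw [k, inf_bot_eq, cd hF, cd hF, finrank_bot,
      show finrank F (LinearMap.ker (b - 1)) = 2 by have := ker2 hF hV hb; have := rk_lt hV b1; omega] at h1
    exact absurd h1 (by decide)
  · have h1 := Submodule.finrank_sup_add_finrank_inf_eq (LinearMap.ker (b - 1)) (LinearMap.ker (b * a - 1))
    have h2 : LinearMap.ker (b - 1) ⊓ LinearMap.ker (b * a - 1) = ⊥ := by
      refine le_bot_iff.1 (k ▸ fun w hw => ?_)
      simp only [Submodule.mem_inf, LinearMap.mem_ker, LinearMap.sub_apply, End.one_apply, sub_eq_zero] at hw ⊢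
      calc a w = (b * (b * a)) w := by rw [← mul_assoc, hb, one_mul]
        _ = w := by rw [End.mul_apply, hw.2, hw.1]
    have h3 := Submodule.finrank_le (LinearMap.ker (b - 1) ⊔ LinearMap.ker (b * a - 1))
    have h4 := ker2 hF hV hb
    have h5 := ker2 hF hV e
    rw [h2, finrank_bot] at h1
    omega

end Lin

variable {F : Type} [Field F]

local notation "SL3" => Matrix.SpecialLinearGroup (Fin 3) F

theorem cube {z : SL3} (hz : z ∈ center SL3) : z ^ 3 = 1 := by
  obtain ⟨r, h1, h2⟩ := Matrix.SpecialLinearGroup.mem_center_iff.1 hz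
  refine Subtype.ext ?_
  rw [Matrix.SpecialLinearGroup.coe_pow, ← h2, ← map_pow, show r ^ 3 = 1 by simpa using h1, map_one]
  rfl

theorem lift {x y : SL3} (h : (x : SL3 ⧸ center SL3) = y) (hx : x ^ 7 = 1) (hy : y ^ 7 = 1) : x = y := by
  have h1 := QuotientGroup.eq.1 h
  have h2 : y = x * (x⁻¹ * y) := by group
  generalize x⁻¹ * y = z at h1 h2
  have h3 : z ^ 7 = 1 := by rwa [h2, (Commute.mul_pow (mem_center_iff.1 h1 x)), hx, one_mul] at hy
  rw [show 7 = 3 * 2 + 1 from rfl, pow_succ, pow_mul, cube h1, one_pow, one_mul] at h3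
  rw [h2, h3, mul_one]

end L34

open L34

theorem g34 (h : GR) : G34 := by
  intro F _ _ hF
  have : Fact (Nat.Prime 7) := ⟨by norm_num⟩
  have hc := CL.Cit.card_L34 hF
  obtain ⟨w, hw⟩ := exists_prime_orderOf_dvd_card' (G := Matrix.ProjectiveSpecialLinearGroup (Fin 3) F) 7
    (by rw [hc]; decide)
  refine h _ w (by rw [hc]; decide) (by rw [hw]; norm_num) (by rw [hw]; decide) (by rw [hw, hc]; decide) fun t ht => ?_
  have w7 : w ^ 7 = 1 := hw ▸ pow_orderOf_eq_one w
  have t2 : t ^ 2 = 1 := ht ▸ pow_orderOf_eq_one t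
  obtain ⟨a, a7, rfl⟩ : ∃ a : Matrix.SpecialLinearGroup (Fin 3) F, a ^ 7 = 1 ∧ w = QuotientGroup.mk a := by
    obtain ⟨a, rfl⟩ := QuotientGroup.mk_surjective w
    refine ⟨a ^ 15, ?_, ?_⟩
    · rw [← pow_mul, show 15 * 7 = 7 * 3 * 5 from rfl, pow_mul, pow_mul,
        cube ((QuotientGroup.eq_one_iff _).1 w7), one_pow]
    · rw [QuotientGroup.mk_pow, show 15 = 7 * 2 + 1 from rfl, pow_succ, pow_mul, w7, one_pow, one_mul]
  obtain ⟨b, b2, rfl⟩ : ∃ b : Matrix.SpecialLinearGroup (Fin 3) F, b ^ 2 = 1 ∧ t = QuotientGroup.mk b := by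
    obtain ⟨b, rfl⟩ := QuotientGroup.mk_surjective t
    refine ⟨b ^ 3, ?_, ?_⟩
    · rw [← pow_mul, mul_comm, pow_mul, cube ((QuotientGroup.eq_one_iff _).1 t2)]
    · rw [QuotientGroup.mk_pow, pow_succ, t2, one_mul]
  let φ : Matrix.SpecialLinearGroup (Fin 3) F →* End F (Fin 3 → F) :=
    (Matrix.toLinAlgEquiv' : Matrix (Fin 3) (Fin 3) F ≃ₐ[F] _).toMonoidHom.comp Matrix.SpecialLinearGroup.coeMonoidHom
  have hφ : Function.Injective φ :=
    Matrix.toLinAlgEquiv'.injective.comp Matrix.SpecialLinearGroup.coeMonoidHom_injective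
  have k := lin (a := φ a) (b := φ b) (Nat.card_eq_fintype_card.trans hF) (by simp) (by rw [← map_pow, a7, map_one])
    (fun e => by rw [hφ (e.trans φ.map_one.symm)] at hw; simp at hw) (by rw [← map_mul, ← pow_two, b2, map_one])
    (fun e => by rw [hφ (e.trans φ.map_one.symm)] at ht; simp at ht)
  have c7 : (b * a * b⁻¹) ^ 7 = 1 := by rw [conj_pow, a7]; simp
  refine ⟨fun e => k.1 ?_, fun e => k.2 ?_⟩
  · rw [← map_mul, ← map_mul, mul_inv_eq_iff_eq_mul.1 (lift (x := b * a * b⁻¹) e c7 a7)]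
  · have e1 := lift (x := b * a * b⁻¹) (y := a⁻¹) e c7 (by rw [inv_pow, a7, inv_one])
    rw [inv_eq_of_mul_eq_one_right ((pow_two b).symm.trans b2)] at e1
    rw [← map_mul, ← map_mul, ← mul_assoc, e1, inv_mul_cancel, map_one]

end CL.PC2
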