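/-
Project PC2 (S4136): criterion Q, and its applications to `L₂(2^n)` and the Suzuki groups.
-/
import Cfsg.Agent.PC2.Defs

set_option autoImplicit false

open Cfsg Subgroup
open scoped Pointwise

namespace CL.PC2

universe u

section
variable {X : Type*} [Group X]

theorem q_exists_odd_prime [Finite X] (h : ¬ IsPGroup 2 X) : ∃ w : X, (orderOf w).Prime ∧ Odd (orderOf w) := by
  by_contra k
  have : Fact (Nat.Prime 2) := ⟨Nat.prime_two⟩
  refine h (IsPGroup.of_card (Nat.eq_prime_pow_of_unique_prime_dvd Nat.card_pos.ne' fun {s} hs hd => ?_))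
  by_contra hs2
  have : Fact s.Prime := ⟨hs⟩
  obtain ⟨w, hw⟩ := exists_prime_orderOf_dvd_card' (G := X) s hd
  exact k ⟨w, hw ▸ hs, hw ▸ hs.odd_of_ne_two hs2⟩

/-- the elements of order at most two in the centre of `S` -/
def qV (S : Subgroup X) : Subgroup X where
  carrier := {z : X | z ∈ S ∧ z * z = 1 ∧ ∀ s ∈ S, s * z = z * s}
  one_mem' := ⟨one_mem _, by simp, by simp⟩
  mul_mem' := by
    rintro a b ⟨a1, a2, a3⟩ ⟨b1, b2, b3⟩
    refine ⟨mul_mem a1 b1, ?_, fun s hs => ?_⟩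
    · rw [mul_assoc, ← mul_assoc b, a3 b b1, mul_assoc, b2, mul_one, a2]
    · rw [← mul_assoc, a3 s hs, mul_assoc, b3 s hs, mul_assoc]
  inv_mem' := by
    rintro a ⟨a1, a2, a3⟩
    rw [inv_eq_of_mul_eq_one_right a2]
    exact ⟨a1, a2, a3⟩

theorem mem_qV {S : Subgroup X} {z : X} : z ∈ qV S ↔ z ∈ S ∧ z * z = 1 ∧ ∀ s ∈ S, s * z = z * s := Iff.rfl

theorem qV_smul {S : Subgroup X} (ψ : MulAut X) {z : X} (hz : z ∈ qV S) : ψ z ∈ qV (ψ • S) := by
  obtain ⟨h1, h2, h3⟩ := hz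
  refine ⟨smul_mem_pointwise_smul z ψ S h1, by rw [← map_mul, h2, map_one], fun s hs => ?_⟩
  obtain ⟨r, hr, rfl⟩ := (mem_smul_pointwise_iff_exists s ψ S).1 hs
  change ψ r * ψ z = ψ z * ψ r
  rw [← map_mul, h3 r hr, map_mul]

theorem card_qV_le [Finite X] (S : Subgroup X) (ψ : MulAut X) : Nat.card (qV S) ≤ Nat.card (qV (ψ • S)) :=
  Nat.card_le_card_of_injective (fun z : qV S => (⟨ψ z, qV_smul ψ z.2⟩ : qV (ψ • S)))
    fun _ _ h => Subtype.ext (ψ.injective (congrArg Subtype.val h))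

theorem q_exists_fixed_sylow [Finite X] {φ : MulAut X} (h : φ * φ = 1) : ∃ S : Sylow 2 X, φ • S = S := by
  have : Fact (Nat.Prime 2) := ⟨Nat.prime_two⟩
  have := Fintype.ofFinite (Sylow 2 X)
  have h1 := not_dvd_card_sylow 2 X
  rw [Nat.card_eq_fintype_card] at h1
  exact Equiv.Perm.exists_fixed_point_of_prime (n := 1) h1 (σ := MulAction.toPermHom (MulAut X) (Sylow 2 X) φ)
    (by rw [← map_pow, pow_one, pow_two, h, map_one])

theorem q_card_le_sq [Finite X] {φ : MulAut X} (h : φ * φ = 1) {S : Subgroup X} (hS : φ • S = S) :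
    Nat.card (qV S) ≤ Nat.card (qV S ⊓ Fix φ : Subgroup X) ^ 2 := by
  have hm : ∀ z ∈ qV S, φ z ∈ qV S := fun z hz => by simpa only [hS] using qV_smul φ hz
  have hφ : ∀ z, φ (φ z) = z := fun z => by rw [← MulAut.mul_apply, h, MulAut.one_apply]
  let f : qV S →* X := MonoidHom.mk' (fun v => v * φ v) fun a b => by
    have := (hm a a.2).2.2 b b.2.1
    simp only [coe_mul, map_mul, mul_assoc]
    rw [← mul_assoc (b : X), this, mul_assoc]
  have h1 : Nat.card f.range ≤ Nat.card (qV S ⊓ Fix φ : Subgroup X) := by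
    refine card_le_of_le ?_
    rintro _ ⟨v, rfl⟩
    refine ⟨mul_mem v.2 (hm v v.2), mem_Fix.2 ?_⟩
    change φ (v * φ v) = v * φ v
    rw [map_mul, hφ, v.2.2.2 _ (hm v v.2).1]
  have h2 : Nat.card f.ker ≤ Nat.card (qV S ⊓ Fix φ : Subgroup X) := by
    refine Nat.card_le_card_of_injective (fun z : f.ker => (⟨z.1.1, z.1.2, mem_Fix.2 ?_⟩ : (qV S ⊓ Fix φ : Subgroup X)))
      fun a b h => Subtype.ext (Subtype.ext (Subtype.mk.inj h))
    have k : (z.1.1 : X) * φ z.1.1 = 1 := z.2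
    rw [← z.1.2.2.1] at k
    exact mul_left_cancel k
  rw [← f.ker.card_mul_index, index_ker, sq]
  exact Nat.mul_le_mul h2 h1

theorem q_inverts [Finite X] (hX : CL.Cit.IsCIT X) {H : Subgroup X} (h : N2 H) {t : X} (ht : t ∈ H) (h1 : t ≠ 1)
    (h2 : t * t = 1) {x : X} (hx : x ∈ h.od) : t * x * t⁻¹ = x⁻¹ := by
  have ho : orderOf t = 2 := orderOf_eq_prime (by rw [pow_two, h2]) h1
  let f : h.od →* h.od := MonoidHom.mk' (fun y => ⟨t * y * t⁻¹, h.conj_mem_od ht y.2⟩) fun a b =>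
    Subtype.ext (by simp [mul_assoc])
  have hf : MonoidHom.FixedPointFree f := fun y hy => by
    have k : t * y * t⁻¹ = y := congrArg Subtype.val hy
    obtain ⟨n, hn⟩ := hX.two_of_comm ho (g := y) (by rw [mul_inv_eq_iff_eq_mul] at k; exact k.symm)
    have k2 : orderOf (y : X) = 1 :=
      Nat.Coprime.eq_one_of_dvd (Nat.Coprime.pow_right n (Nat.coprime_two_right.2 y.2.2))
        (orderOf_dvd_of_pow_eq_one hn)
    exact Subtype.ext (orderOf_eq_one_iff.1 k2)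
  have hi : Function.Involutive f := fun y => Subtype.ext (by
    change t * (t * y * t⁻¹) * t⁻¹ = y
    rw [inv_eq_of_mul_eq_one_right h2, ← mul_assoc, ← mul_assoc, h2, one_mul, mul_assoc, h2, mul_one])
  exact congrArg Subtype.val (congrFun (hf.coe_eq_inv_of_involutive hi) ⟨x, hx⟩)

end

theorem gq : GQ.{u} := by
  rintro X _ _ hX h2 ⟨S, hS⟩
  have : Fact (Nat.Prime 2) := ⟨Nat.prime_two⟩
  obtain ⟨w, w1, w2⟩ := q_exists_odd_prime h2
  refine ⟨w, w1, w2, fun φ p1 p2 h => ?_⟩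
  obtain ⟨T, hT⟩ := q_exists_fixed_sylow p1
  obtain ⟨g, rfl⟩ := MulAction.exists_smul_eq X S T
  have k1 : 8 ≤ Nat.card (qV ((g • S : Sylow 2 X) : Subgroup X)) :=
    hS.trans (card_qV_le (S : Subgroup X) (MulAut.conj g))
  have k2 := q_card_le_sq p1 (S := ((g • S : Sylow 2 X) : Subgroup X)) (congrArg Sylow.toSubgroup hT)
  generalize ((g • S : Sylow 2 X) : Subgroup X) = T at k1 k2
  have k3 : 2 < Nat.card (qV T ⊓ Fix φ : Subgroup X) := by
    by_contra k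
    have := Nat.pow_le_pow_left (not_lt.1 k) 2
    omega
  have := Fintype.ofFinite (qV T ⊓ Fix φ : Subgroup X)
  rw [Nat.card_eq_fintype_card, Fintype.two_lt_card_iff] at k3
  obtain ⟨x, y, z, xy, xz, yz⟩ := k3
  have hw : w ∈ h.od := ⟨p2, w2⟩
  have inv : ∀ a : (qV T ⊓ Fix φ : Subgroup X), a ≠ 1 → a * w * (a : X)⁻¹ = w⁻¹ := fun a ha =>
    q_inverts hX h a.2.2 (fun e => ha (Subtype.ext e)) a.2.1.2.1 hw
  have e1 := inv (x⁻¹ * y) fun e => xy (inv_mul_eq_one.1 e)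
  have e2 := inv (y⁻¹ * z) fun e => yz (inv_mul_eq_one.1 e)
  have e3 := inv (x⁻¹ * y * (y⁻¹ * z)) fun e => xz (inv_mul_eq_one.1 (by rwa [mul_assoc, mul_inv_cancel_left] at e))
  rw [coe_mul] at e3
  generalize ((x⁻¹ * y : (qV T ⊓ Fix φ : Subgroup X)) : X) = a at e1 e3
  generalize ((y⁻¹ * z : (qV T ⊓ Fix φ : Subgroup X)) : X) = b at e2 e3
  have e4 : w = w⁻¹ := by
    rw [← e3, show a * b * w * (a * b)⁻¹ = a * (b * w * b⁻¹) * a⁻¹ by group, e2,
      show a * w⁻¹ * a⁻¹ = (a * w * a⁻¹)⁻¹ by group, e1, inv_inv]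
  have e5 : orderOf w ∣ 2 := orderOf_dvd_of_pow_eq_one (by rw [pow_two]; exact mul_eq_one_iff_eq_inv.2 e4)
  have e6 := (Nat.prime_dvd_prime_iff_eq w1 Nat.prime_two).1 e5
  rw [e6] at w2
  exact absurd w2 (by decide)

theorem q_sq_of_even {F : Type*} [Field F] [Fintype F] {n : ℕ} (hF : Fintype.card F = 2 ^ n)
    {x : Matrix.ProjectiveSpecialLinearGroup (Fin 2) F} (hx : Even (orderOf x)) : x * x = 1 := by
  haveI := CL.Cit.charP_two_of_card hF
  have h2 := CL.Chev.Sz.two_eq_zero_of_card hF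
  have he := CL.SL2.even_card_of_two_eq_zero h2
  have h1 : 1 < Fintype.card F := Fintype.one_lt_card
  have h3 : orderOf x ∈ CL.Perm.Spec (Matrix.ProjectiveSpecialLinearGroup (Fin 2) F) := ⟨x, rfl⟩
  rw [CL.Perm.spec_PSL2 2, CL.SL2.gcd_two_of_eq h2] at h3
  obtain ⟨c, hc⟩ := he
  rcases h3 with h | h | h
  · rw [← pow_two]; exact orderOf_dvd_iff_pow_eq_one.1 h
  · have := hx.two_dvd.trans h
    omega
  · have := hx.two_dvd.trans h
    omega

theorem gb (h : GQ.{0}) : GB := by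
  intro F _ _ h4 he
  have : Fact (Nat.Prime 2) := ⟨Nat.prime_two⟩
  obtain ⟨p, hp, n, hpp, hn⟩ := FiniteField.card' F
  obtain rfl : 2 = p := (Nat.prime_dvd_prime_iff_eq Nat.prime_two hpp).1
    (Nat.prime_two.dvd_of_dvd_pow (hn ▸ he.two_dvd))
  have n3 : 3 ≤ (n : ℕ) := by
    by_contra k
    have := Nat.pow_le_pow_right (show 0 < 2 by norm_num) (show (n : ℕ) ≤ 2 by omega)
    omega
  have hL : CL.Cit.IsL2Even (Matrix.ProjectiveSpecialLinearGroup (Fin 2) F) :=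
    ⟨F, inferInstance, inferInstance, n, by omega, hn, ⟨MulEquiv.refl _⟩⟩
  refine h _ (CL.Cit.isCIT_L2_even hn) (fun k => ?_) ?_
  · obtain ⟨m, hm⟩ := IsPGroup.iff_card.1 k
    have := Nat.prime_three.dvd_of_dvd_pow (hm ▸ hL.three_dvd)
    omega
  · obtain ⟨S⟩ : Nonempty (Sylow 2 (Matrix.ProjectiveSpecialLinearGroup (Fin 2) F)) := inferInstance
    refine ⟨S, ?_⟩
    have sq : ∀ z ∈ (S : Subgroup (Matrix.ProjectiveSpecialLinearGroup (Fin 2) F)), z * z = 1 := fun z hz => by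
      obtain ⟨m, hm⟩ := IsPGroup.iff_orderOf.1 S.isPGroup' ⟨z, hz⟩
      replace hm : orderOf z = 2 ^ m := by rw [← hm, ← Subgroup.orderOf_coe]
      rcases m with _ | m
      · rw [orderOf_eq_one_iff.1 hm, mul_one]
      · exact q_sq_of_even hn (by rw [hm, pow_succ]; exact even_two.mul_left _)
    have k1 : 2 ^ (n : ℕ) ∣ Nat.card S := S.pow_dvd_card_of_pow_dvd_card (by
      rw [CL.Cit.card_L2_even hn]; exact dvd_mul_right _ _)
    have k2 : (S : Subgroup (Matrix.ProjectiveSpecialLinearGroup (Fin 2) F)) ≤ qV S := fun z hz =>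
      ⟨hz, sq z hz, fun s hs => by
        have := sq _ (mul_mem hs hz)
        rw [mul_eq_one_iff_eq_inv, mul_inv_rev, inv_eq_of_mul_eq_one_right (sq z hz),
          inv_eq_of_mul_eq_one_right (sq s hs)] at this
        exact this⟩
    calc 8 = 2 ^ 3 := rfl
      _ ≤ 2 ^ (n : ℕ) := Nat.pow_le_pow_right (by norm_num) n3
      _ ≤ Nat.card S := Nat.le_of_dvd Nat.card_pos k1
      _ ≤ _ := card_le_of_le k2

theorem gs (h : GQ.{u}) : GS.{u} := by
  intro X _ _ hX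
  obtain ⟨F, _, _, m, hm, hF, ⟨M⟩⟩ := CL.Cit.exists_model_of_isoSuzuki hX
  refine h X (CL.Cit.isCIT_of_model M) (fun k => ?_) ⟨M.sylowU, ?_⟩
  · have := M.sylowU.is_maximal' (k.to_subgroup ⊤) le_top
    refine M.w_not_mem_B (M.U_le_B ?_)
    rw [← M.sylowU_coe, ← this]
    exact mem_top _
  · have k2 : M.Z ≤ qV M.U := by
      rintro _ ⟨b, rfl⟩
      refine ⟨M.T_mem_U _ _, M.T_zero_sq b, ?_⟩
      rintro _ ⟨a', b', rfl⟩
      rw [M.T_mul_T_zero, M.T_zero_mul_T, add_comm]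
    calc 8 = 2 ^ 3 := rfl
      _ ≤ 2 ^ (2 * m + 1) := Nat.pow_le_pow_right (by norm_num) (by omega)
      _ = Nat.card M.Z := by rw [M.card_Z, hF]
      _ ≤ _ := card_le_of_le k2

end CL.PC2
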