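/-
Project PC2 (S4136): criterion R and the alternating group of degree seven.
-/
import Cfsg.Agent.PC2.Defs

set_option autoImplicit false

open Cfsg Subgroup CL.Grp CL.Even

namespace CL.PC2

namespace RJ

theorem pm {X : Type*} [Group X] [Finite X] {w t : X} (hp : (orderOf w).Prime) (ht : t * t = 1)
    (hn : t ∈ normalizer (zpowers w : Set X)) : t * w * t⁻¹ = w ∨ t * w * t⁻¹ = w⁻¹ := by
  have ha : t * w * t⁻¹ ∈ zpowers w := (mem_normalizer_iff.1 hn w).1 (mem_zpowers w)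
  by_cases hb : w * (t * w * t⁻¹) = 1
  · exact .inr (eq_inv_of_mul_eq_one_right hb)
  refine .inl ?_
  have hm : w * (t * w * t⁻¹) ∈ zpowers w := mul_mem (mem_zpowers w) ha
  have ho : orderOf (w * (t * w * t⁻¹)) = orderOf w :=
    ((Nat.dvd_prime hp).1 (orderOf_dvd_of_mem_zpowers hm)).resolve_left fun k => hb (orderOf_eq_one_iff.1 k)
  have e : zpowers (w * (t * w * t⁻¹)) = zpowers w :=
    eq_of_le_of_card_ge (zpowers_le.2 hm) (by rw [Nat.card_zpowers, Nat.card_zpowers, ho])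
  have c1 : Commute w (t * w * t⁻¹) := by
    obtain ⟨k, hk⟩ := ha
    rw [← hk]; exact (Commute.refl w).zpow_right k
  have ti : t⁻¹ = t := inv_eq_of_mul_eq_one_right ht
  have c2 : Commute t (w * (t * w * t⁻¹)) := by
    show t * (w * (t * w * t⁻¹)) = w * (t * w * t⁻¹) * t
    conv_rhs => rw [c1.eq]
    rw [ti]
    calc t * (w * (t * w * t)) = t * w * t * w * t := by group
      _ = _ := rfl
  obtain ⟨k, hk⟩ : w ∈ zpowers (w * (t * w * t⁻¹)) := e ▸ mem_zpowers w
  have c3 : Commute t w := hk ▸ c2.zpow_right k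
  rw [c3.eq, mul_inv_cancel_right]

theorem cent7 {t : Equiv.Perm (Fin 7)} (h : Commute t (finRotate 7)) : ∃ c : Fin 7, t = finRotate 7 ^ (c : ℕ) := by
  have k : ∀ i : Fin 7, (finRotate 7 ^ (i : ℕ)) 0 = i := by decide
  refine ⟨t 0, Equiv.ext fun i => ?_⟩
  have e : t ((finRotate 7 ^ (i : ℕ)) 0) = (finRotate 7 ^ (i : ℕ)) (t 0) :=
    congrArg (fun f : Equiv.Perm (Fin 7) => f 0) (h.pow_right i).eq
  rw [k] at e
  rw [e]
  conv_lhs => rw [← k (t 0)]
  conv_rhs => rw [← k i]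
  exact congrArg (fun f : Equiv.Perm (Fin 7) => f 0) ((Commute.refl (finRotate 7)).pow_pow i (t 0)).eq

end RJ

open RJ

theorem gr : GR := by
  intro X _ _ w hX hp ho hsq hno
  refine ⟨w, hp, ho, fun φ h2 hw h => ?_⟩
  have : Fact (Nat.Prime 2) := ⟨Nat.prime_two⟩
  have : Fact (orderOf w).Prime := ⟨hp⟩
  obtain ⟨⟨t, htF⟩, ht⟩ := exists_prime_orderOf_dvd_card' (G := Fix φ) 2
    (Nat.dvd_of_mod_eq_zero ((card_Fix_mod h2).trans (Nat.even_iff.1 hX)))
  rw [← Subgroup.orderOf_coe] at ht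
  change orderOf t = 2 at ht
  have hwO : w ∈ h.od := ⟨hw, ho⟩
  have hS : IsSylowIn (orderOf w) (zpowers w) h.od := by
    refine ⟨zpowers_le.2 hwO, IsPGroup.of_card (n := 1) (by rw [Nat.card_zpowers, pow_one]), fun k => hsq ?_⟩
    refine dvd_trans ?_ (card_subgroup_dvd_card h.od)
    rw [← card_mul_index ((zpowers w).subgroupOf h.od),
      Nat.card_congr (subgroupOfEquivOfLe (zpowers_le.2 hwO)).toEquiv, Nat.card_zpowers, sq]
    exact Nat.mul_dvd_mul_left _ k
  obtain ⟨o, hoO, k⟩ := syl_conj_le hS (isPGroup_cj hS.isPGroup t) (by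
    rintro _ ⟨x, hx, rfl⟩
    exact h.conj_mem_od htF (hS.le hx))
  rw [← cj_mul] at k
  have hg := mem_norm_of_cj_le k
  have t2 : t * t = 1 := by rw [← sq, ← ht, pow_orderOf_eq_one]
  have g2 : o * t * (o * t) ∈ h.od := by
    rw [show o * t * (o * t) = o * (t * o * t⁻¹) by rw [inv_eq_of_mul_eq_one_right t2]; group]
    exact mul_mem hoO (h.conj_mem_od htF hoO)
  have e2 : (o * t) ^ orderOf (o * t * (o * t)) * (o * t) ^ orderOf (o * t * (o * t)) = 1 := by
    rw [← (Commute.refl _).mul_pow, pow_orderOf_eq_one]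
  have e1 : (o * t) ^ orderOf (o * t * (o * t)) ≠ 1 := fun k1 => by
    have a : o * t ∈ h.od := ⟨mul_mem hoO.1 htF, g2.2.of_dvd_nat (orderOf_dvd_of_pow_eq_one k1)⟩
    have b := ((mul_mem_cancel_left hoO).1 a).2
    rw [ht] at b
    exact absurd b (by decide)
  obtain ⟨n1, n2⟩ := hno _ (orderOf_eq_prime (by rw [sq, e2]) e1)
  exact (pm hp e2 (pow_mem hg _)).elim n1 n2

theorem g7 (h : GR) : G7 := by
  have : Fact (Nat.Prime 7) := ⟨by norm_num⟩
  let w : alternatingGroup (Fin 7) := ⟨finRotate 7, by rw [Equiv.Perm.mem_alternatingGroup, sign_finRotate]; decide⟩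
  have ho : orderOf w = 7 := orderOf_eq_prime (Subtype.ext (by decide)) fun k => absurd (congrArg Subtype.val k) (by decide)
  have hc : Nat.card (alternatingGroup (Fin 7)) = 2520 := by
    have k := two_mul_nat_card_alternatingGroup (α := Fin 7)
    rw [Nat.card_perm, Nat.card_eq_fintype_card (α := Fin 7), Fintype.card_fin] at k
    have k2 : Nat.factorial 7 = 5040 := by decide
    omega
  refine h _ w (by rw [hc]; decide) (by rw [ho]; norm_num) (by rw [ho]; decide) (by rw [ho, hc]; decide) fun t ht => ?_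
  have t2 : t.1 * t.1 = 1 := congrArg Subtype.val (show t * t = 1 by rw [← sq, ← ht, pow_orderOf_eq_one])
  refine ⟨fun k => ?_, fun k => ?_⟩
  · obtain ⟨c, e⟩ := cent7 (t := t.1) (mul_inv_eq_iff_eq_mul.1 (congrArg Subtype.val k))
    have a : ∀ c : Fin 7, finRotate 7 ^ (c : ℕ) * finRotate 7 ^ (c : ℕ) = 1 → finRotate 7 ^ (c : ℕ) = 1 := by decide
    rw [e] at t2
    have : t = 1 := Subtype.ext (e.trans (a c t2))
    rw [this, orderOf_one] at ht
    exact absurd ht (by decide)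
  · have k1 : t.1 * finRotate 7 * t.1⁻¹ = (finRotate 7)⁻¹ := congrArg Subtype.val k
    have n1 : Equiv.neg (Fin 7) * finRotate 7 = (finRotate 7)⁻¹ * Equiv.neg (Fin 7) := by decide
    have k2 : t.1 * (finRotate 7)⁻¹ = finRotate 7 * t.1 := by
      rw [← mul_inv_eq_iff_eq_mul, ← conj_inv, k1, inv_inv]
    obtain ⟨c, e⟩ := cent7 (t := t.1 * Equiv.neg (Fin 7)) (by
      show _ = _
      rw [mul_assoc, n1, ← mul_assoc, k2, mul_assoc])
    have s := congrArg Equiv.Perm.sign e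
    have s1 : Equiv.Perm.sign (Equiv.neg (Fin 7)) = -1 := by decide
    rw [map_mul, map_pow, Equiv.Perm.mem_alternatingGroup.1 t.2, s1, Equiv.Perm.mem_alternatingGroup.1 w.2, one_pow] at s
    exact absurd s (by decide)

end CL.PC2
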