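/-
Project PC2 (S4136): the reduction to simple groups.
-/
import Cfsg.Agent.PC2.Defs
import Cfsg.Agent.Even.Amb2
import Cfsg.Agent.Grp.PNilpFrob
import Cfsg.Agent.Grp.CoresPi

set_option autoImplicit false

open Cfsg Subgroup CL.Grp CL.Even

namespace CL.PC2

universe u

variable {G : Type u} [Group G]

local instance fact2 : Fact (Nat.Prime 2) := ⟨Nat.prime_two⟩

theorem n2_iff [Finite G] {H : Subgroup G} : N2 H ↔ HasNormalPComplement 2 H := by
  rw [hasNormalPComplement_iff_mul]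
  simp only [Nat.coprime_two_right, ← Subgroup.orderOf_coe]
  exact ⟨fun h x y => h x x.2 y y.2, fun h a ha b hb => h ⟨a, ha⟩ ⟨b, hb⟩⟩

theorem eq_one_of_odd {a : G} {k : ℕ} (h : Odd (orderOf a)) (h2 : a ^ 2 ^ k = 1) : a = 1 :=
  orderOf_eq_one_iff.1 (Nat.eq_one_of_self_dvd_coprime' (orderOf_dvd_of_pow_eq_one h2) h)
where Nat.eq_one_of_self_dvd_coprime' {n k : ℕ} (h : n ∣ 2 ^ k) (o : Odd n) : n = 1 :=
  Nat.Coprime.eq_one_of_dvd ((Nat.coprime_two_right.2 o).pow_right k) h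

theorem n2_of_central [Finite G] {H : Subgroup G} (h : ∀ y ∈ H, (∃ k, y ^ 2 ^ k = 1) → ∀ g ∈ H, y * g = g * y) :
    N2 H := by
  obtain ⟨P⟩ := (inferInstance : Nonempty (Sylow 2 H))
  refine n2_iff.2 ((hasNormalPComplement_iff_normalizer_coprime_centralizes P).2 fun Q hQ g _ _ y hy => ?_)
  obtain ⟨k, hk⟩ := isPGroup_iff_forall.1 P.isPGroup' y (hQ hy)
  exact Subtype.ext (h y y.2 ⟨k, congrArg Subtype.val hk⟩ g g.2)

/-- primary elements of odd order -/
def Pr (w : G) : Prop := ∃ r k : ℕ, r.Prime ∧ r ≠ 2 ∧ w ^ r ^ k = 1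

theorem Pr.odd {w : G} (h : Pr w) : Odd (orderOf w) :=
  let ⟨_, _, h1, h2, h3⟩ := h; ((h1.odd_of_ne_two h2).pow).of_dvd_nat (orderOf_dvd_of_pow_eq_one h3)

theorem all_odd [Finite G] {K H : Subgroup G} (h : ∀ w ∈ K, Pr w → w ∈ H) {a : G} (ha : a ∈ K) (o : Odd (orderOf a)) :
    a ∈ H := by
  by_contra hn
  obtain ⟨r, hr, d⟩ := Nat.exists_prime_and_dvd (n := (H ⊓ zpowers a).relIndex (zpowers a)) fun e =>
    hn (relIndex_eq_one.1 e (mem_zpowers a)).1
  have := Fact.mk hr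
  have r2 : r ≠ 2 := by
    rintro rfl
    have := d.trans (Subgroup.index_dvd_card _)
    rw [Nat.card_zpowers] at this
    exact Nat.not_even_iff_odd.2 o (even_iff_two_dvd.2 this)
  obtain ⟨S, hS⟩ := exists_isSylowIn r (zpowers a)
  refine hS.not_dvd_relIndex_of_le (le_inf (fun x hx => ?_) hS.le) inf_le_right d
  obtain ⟨k, hk⟩ := isPGroup_iff_forall.1 hS.isPGroup x hx
  exact h x (zpowers_le.2 ha (hS.le hx)) ⟨r, k, hr, r2, hk⟩

theorem lift_pr [Finite G] {G' : Type u} [Group G'] (f : G →* G') {w : G} (h : Pr (f w)) :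
    ∃ j, f (w ^ j) = f w ∧ Pr (w ^ j) := by
  obtain ⟨r, k, h1, h2, h3⟩ := h
  obtain ⟨e, m, hm, em⟩ := Nat.exists_eq_pow_mul_and_not_dvd (orderOf_pos w).ne' r h1.ne_one
  obtain ⟨j, hj⟩ := exists_pow_eq_self_of_coprime (x := f w) (n := m)
    ((((Nat.Prime.coprime_iff_not_dvd h1).2 hm).symm.pow_right k).coprime_dvd_right (orderOf_dvd_of_pow_eq_one h3))
  refine ⟨m * j, by rw [map_pow, pow_mul, hj], r, e, h1, h2, ?_⟩
  rw [← pow_mul, show m * j * r ^ e = r ^ e * m * j by ring, ← em, pow_mul, pow_orderOf_eq_one, one_pow]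

theorem exists_invol [Finite G] {x : G} {k : ℕ} (h1 : x ≠ 1) (h : x ^ 2 ^ k = 1) : ∃ t ∈ zpowers x, orderOf t = 2 := by
  obtain ⟨t, ht⟩ := exists_prime_orderOf_dvd_card' (G := zpowers x) 2 (by
    rw [Nat.card_zpowers]
    exact even_iff_two_dvd.1 (Nat.not_odd_iff_even.1 fun o => h1 (eq_one_of_odd o h)))
  exact ⟨t, t.2, by rw [Subgroup.orderOf_coe, ht]⟩

theorem comm_zpowers {x w t : G} (h : x * w = w * x) (ht : t ∈ zpowers x) : t * w = w * t :=
  mem_centralizer_singleton_iff.1 (zpowers_le.2 (mem_centralizer_singleton_iff.2 h) ht)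

/-- the hypothesis on a normal subgroup -/
def Hyp (K : Subgroup G) : Prop := (∀ φ : G, orderOf φ = 2 → N2 (K ⊓ centralizer {φ})) ∧
  ∀ w ∈ K, Pr w → ∃ φ : G, orderOf φ = 2 ∧ φ * w = w * φ

theorem Hyp.mono {K M : Subgroup G} (h : Hyp K) (k : M ≤ K) : Hyp M :=
  ⟨fun φ hφ => (h.1 φ hφ).mono (inf_le_inf_right _ k), fun w hw => h.2 w (k hw)⟩

theorem odd_map [Finite G] {G' : Type u} [Group G'] (f : G →* G') {a : G} (h : Odd (orderOf a)) : Odd (orderOf (f a)) :=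
  h.of_dvd_nat (orderOf_map_dvd f a)

section Odd
variable [Finite G] {K N : Subgroup G} [N.Normal] (hN : Odd (Nat.card N))
include hN

theorem odd_lift {a : G} (h : Odd (orderOf (QuotientGroup.mk' N a))) : Odd (orderOf a) := by
  have m : a ^ orderOf (QuotientGroup.mk' N a) ∈ N := (QuotientGroup.eq_one_iff _).1
    (((QuotientGroup.mk' N).map_pow a _).trans (pow_orderOf_eq_one _))
  refine (h.mul hN).of_dvd_nat (orderOf_dvd_of_pow_eq_one ?_)
  rw [pow_mul]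
  exact congrArg Subtype.val (pow_card_eq_one' (x := (⟨_, m⟩ : N)))

theorem quot_odd (hNK : N ≤ K) (h : Hyp K) : Hyp (K.map (QuotientGroup.mk' N)) := by
  have pw : ∀ n ∈ N, n ^ Nat.card N = 1 := fun n hn => congrArg Subtype.val (pow_card_eq_one' (x := (⟨n, hn⟩ : N)))
  obtain ⟨t, ht⟩ := id hN
  refine ⟨fun φ' hφ' => ?_, ?_⟩
  · obtain ⟨φ0, rfl⟩ := QuotientGroup.mk'_surjective N φ'
    have s2 : QuotientGroup.mk' N φ0 ^ 2 = 1 := by rw [← hφ', pow_orderOf_eq_one]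
    obtain ⟨φ, e, f2⟩ : ∃ φ, QuotientGroup.mk' N φ = QuotientGroup.mk' N φ0 ∧ φ ^ 2 = 1 :=
      ⟨φ0 ^ Nat.card N, by rw [map_pow, ht, pow_succ, pow_mul, s2, one_pow, one_mul], by
        rw [← pow_mul, mul_comm, pow_mul]
        exact pw _ ((QuotientGroup.eq_one_iff _).1 (((QuotientGroup.mk' N).map_pow φ0 2).trans s2))⟩
    rw [← e] at hφ' ⊢
    have o : orderOf φ = 2 := orderOf_eq_prime f2 (by rintro rfl; simp at hφ')
    have fx : ∀ a' ∈ K.map (QuotientGroup.mk' N) ⊓ centralizer {QuotientGroup.mk' N φ},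
        ∃ a ∈ K ⊓ centralizer {φ}, QuotientGroup.mk' N a = a' := by
      rintro _ ⟨⟨a, ha, rfl⟩, hc⟩
      have m : a⁻¹ * (φ * a * φ⁻¹) ∈ N := (QuotientGroup.eq_one_iff _).1 (by
        change QuotientGroup.mk' N _ = 1
        rw [map_mul, map_mul, map_mul, map_inv, map_inv, ← mem_centralizer_singleton_iff.1 hc]; group)
      obtain ⟨n, hn, e1⟩ : ∃ n ∈ N, φ * a * φ⁻¹ = a * n := ⟨_, m, by group⟩
      have e2 : φ * n * φ⁻¹ = n⁻¹ := by
        have : φ * (φ * a * φ⁻¹) * φ⁻¹ = a := by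
          rw [show φ * (φ * a * φ⁻¹) * φ⁻¹ = φ ^ 2 * a * (φ ^ 2)⁻¹ by rw [pow_two]; group, f2]; group
        rw [e1, show φ * (a * n) * φ⁻¹ = φ * a * φ⁻¹ * (φ * n * φ⁻¹) by group, e1, mul_assoc, mul_eq_left] at this
        exact eq_inv_of_mul_eq_one_right this
      have e3 : n = n ^ (t + 1) * n ^ (t + 1) := by
        rw [← pow_add, show t + 1 + (t + 1) = 2 * t + 1 + 1 by ring, ← ht, pow_succ, pw n hn, one_mul]
      refine ⟨a * n ^ (t + 1), ⟨mul_mem ha (hNK (pow_mem hn _)), mem_centralizer_singleton_iff.2 ?_⟩, ?_⟩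
      · refine (mul_inv_eq_iff_eq_mul.1 ?_).symm
        rw [show φ * (a * n ^ (t + 1)) * φ⁻¹ = φ * a * φ⁻¹ * (φ * n * φ⁻¹) ^ (t + 1) by rw [conj_pow]; group, e1, e2,
          inv_pow, mul_assoc, mul_right_inj, mul_inv_eq_iff_eq_mul]
        exact e3
      · rw [map_mul, show QuotientGroup.mk' N (n ^ (t + 1)) = 1 from (QuotientGroup.eq_one_iff _).2 (pow_mem hn _),
          mul_one]
    intro a' ha b' hb o1 o2
    obtain ⟨a, ma, rfl⟩ := fx a' ha
    obtain ⟨b, mb, rfl⟩ := fx b' hb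
    rw [← map_mul]
    exact odd_map _ (h.1 φ o a ma b mb (odd_lift hN o1) (odd_lift hN o2))
  · rintro _ ⟨w, hw, rfl⟩ hp
    obtain ⟨j, e, hj⟩ := lift_pr _ hp
    obtain ⟨φ, o, c⟩ := h.2 _ (pow_mem hw j) hj
    refine ⟨QuotientGroup.mk' N φ, orderOf_eq_prime (by rw [← map_pow, ← o, pow_orderOf_eq_one, map_one]) fun k => ?_,
      by rw [← e, ← map_mul, c, map_mul]⟩
    have := odd_lift hN (a := φ) (by rw [k]; simp)
    rw [o] at this
    exact absurd this (by decide)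

end Odd

theorem two_case [Finite G] {K M : Subgroup G} [M.Normal] (hMK : M ≤ K) (hM : IsPGroup 2 M) (h0 : M ≠ ⊥) (h : Hyp K) :
    N2 K := by
  have nM : ∀ g : G, g ∈ 𝒩(M) := fun g => by rw [normalizer_eq_top]; trivial
  obtain ⟨⟨x, hx⟩, x1⟩ := ne_bot_iff_exists_ne_one.1 h0
  obtain ⟨k, hk⟩ := isPGroup_iff_forall.1 hM x hx
  obtain ⟨z, hz, z2⟩ := exists_invol (fun e => x1 (Subtype.ext e)) hk
  have key : ∀ w ∈ K, Pr w → w ∈ centralizer {z} := fun w hw hp => by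
    obtain ⟨φ, o, c⟩ := h.2 w hw hp
    have := pxq_elt hM (isPGroup_zpowers (k := 1) (x := φ) (by rw [pow_one, ← o, pow_orderOf_eq_one])) (fun g _ => nM g)
      (Nat.coprime_two_right.2 hp.odd) (nM w) (fun a ha => by
        rw [commutatorElement_eq_one_iff_mul_comm.2 (comm_zpowers c ha)]
        exact one_mem _) fun u hu => by
      have hO := h.1 φ o
      have m1 : w ∈ hO.od := ⟨⟨hw, mem_centralizer_singleton_iff.2 c.symm⟩, hp.odd⟩
      have m2 : u ∈ K ⊓ centralizer {φ} := ⟨hMK hu.1, mem_centralizer_singleton_iff.2 (hu.2 φ (mem_zpowers φ)).symm⟩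
      have m3 := mul_mem (hO.conj_mem_od m2 m1) (inv_mem m1)
      have m4 : u * w * u⁻¹ * w⁻¹ ∈ M := by
        simpa [mul_assoc] using mul_mem hu.1 (conj_mem (nM w) (inv_mem hu.1))
      obtain ⟨j, hj⟩ := isPGroup_iff_forall.1 hM _ m4
      exact mul_inv_eq_iff_eq_mul.1 (mul_inv_eq_one.1 (eq_one_of_odd m3.2 hj))
    exact mem_centralizer_singleton_iff.2 (comm_of_mem this (zpowers_le.2 hx hz)).symm
  exact fun a ha b hb o1 o2 => h.1 z z2 a ⟨ha, all_odd key ha o1⟩ b ⟨hb, all_odd key hb o2⟩ o1 o2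

/-- the statement on simple groups -/
def Smp : Prop := ∀ (X : Type u) [Group X] [Finite X] [IsSimpleGroup X], ¬ IsMulCommutative X →
  (∀ t : X, orderOf t = 2 → N2 (centralizer {t})) → Good X

theorem core (hS : Smp.{u}) (n : ℕ) : ∀ (G : Type u) [Group G] [Finite G] (K : Subgroup G) [K.Normal], Nat.card K = n →
    Hyp K → N2 K := by
  induction n using Nat.strong_induction_on with | _ n ih
  intro G _ _ K _ hK h
  by_contra hn
  have nK : ∀ g : G, g ∈ 𝒩(K) := fun g => by rw [normalizer_eq_top]; trivial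
  have O1 : pPrimeCoreOf 2 K = ⊥ := by
    by_contra h0
    have : (pPrimeCoreOf 2 K).Normal := normalizer_eq_top_iff.1
      (top_le_iff.1 fun g _ => normalizer_le_normalizer_pPrimeCoreOf 2 K (nK g))
    have o := Nat.coprime_two_right.1 (pPrimeCoreOf_coprime 2 K)
    have e := card_eq_card_inf_ker_mul_card_map (QuotientGroup.mk' (pPrimeCoreOf 2 K)) K
    rw [QuotientGroup.ker_mk', inf_of_le_left (pPrimeCoreOf_le 2 K)] at e
    have l := (one_lt_card_iff_ne_bot _).2 h0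
    have : (K.map (QuotientGroup.mk' (pPrimeCoreOf 2 K))).Normal := Normal.map ‹_› _ (QuotientGroup.mk'_surjective _)
    have q := ih _ (by rw [← hK, e]; exact lt_mul_of_one_lt_left Nat.card_pos l) _ _ rfl
      (quot_odd o (pPrimeCoreOf_le 2 K) h)
    exact hn fun a ha b hb o1 o2 => odd_lift o (by
      rw [map_mul]
      exact q _ ⟨a, ha, rfl⟩ _ ⟨b, hb, rfl⟩ (odd_map _ o1) (odd_map _ o2))
  have O2 : pCoreOf 2 K = ⊥ := by
    by_contra h0
    exact hn (two_case (pCoreOf_le 2 K) (pCoreOf_isPGroup 2 K) h0 h)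
  have nn : ∀ Y ≤ K, K ≤ 𝒩(Y) → N2 Y → Y = ⊥ := fun Y hY nY hO => by
    have e : hO.od = ⊥ := le_bot_iff.1 (O1 ▸ le_pPrimeCoreOf (hO.od_le.trans hY) (le_normalizer_iff.2
      fun g hg a ha => ⟨conj_mem (nY hg) ha.1, odd_map (MulAut.conj g).toMonoidHom ha.2⟩)
      (Nat.coprime_two_right.2 hO.odd_card))
    refine le_bot_iff.1 (O2 ▸ le_pCoreOf hY nY (isPGroup_iff_forall.2 fun y hy => ?_))
    obtain ⟨k, m, o, em⟩ := Nat.exists_eq_two_pow_mul_odd (orderOf_pos y).ne'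
    refine ⟨k, mem_bot.1 (e ▸ ⟨pow_mem hy _, o.of_dvd_nat (orderOf_dvd_of_pow_eq_one ?_)⟩)⟩
    rw [← pow_mul, ← em, pow_orderOf_eq_one]
  have mn : ∀ X : Subgroup G, X ≤ K → K ≤ 𝒩(X) → X ≠ ⊥ → X = K := fun X => by
    induction X using WellFoundedLT.induction with | _ X ih2
    intro hX nX h0
    have c : ∀ g, X ≤ K ∧ cj g X ≤ K ∧ K ≤ 𝒩(cj g X) := fun g => ⟨hX, cj_le_of_le hX (nK g), by
      rw [← cj_norm, ← cj_eq (nK g)]; exact cj_mono g nX⟩
    have : X.Normal := ⟨fun x hx g => by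
      suffices X ≤ cj g⁻¹ X by simpa using mem_cj.1 (this hx)
      generalize g⁻¹ = g
      by_contra hl
      have l : X ⊓ cj g X < X := lt_of_le_of_ne inf_le_left fun e => hl (e.ge.trans inf_le_right)
      have e : X ⊓ cj g X = ⊥ := by_contra fun e => (l.trans_le hX).ne (ih2 _ l (inf_le_left.trans hX)
        (fun k hk => mem_normalizer_iff.2 fun a => and_congr (mem_normalizer_iff.1 (nX hk) a)
          (mem_normalizer_iff.1 ((c g).2.2 hk) a)) e)
      by_cases o : Odd (Nat.card (cj g X))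
      · exact h0 (cj_eq_bot.1 (nn _ (c g).2.1 (c g).2.2 (n2_of_odd o fun a ha _ => ha)))
      obtain ⟨z, hz⟩ := exists_prime_orderOf_dvd_card' (G := cj g X) 2 (even_iff_two_dvd.1 (Nat.not_odd_iff_even.1 o))
      refine h0 (nn _ hX nX ((h.1 z (by rw [Subgroup.orderOf_coe, hz])).mono fun a ha => ⟨hX ha,
        mem_centralizer_singleton_iff.2 (mul_inv_eq_iff_eq_mul.1 (mul_inv_eq_one.1 (mem_bot.1 (e ▸ ⟨?_, ?_⟩))))⟩))
      · simpa [mul_assoc] using mul_mem ha (conj_mem (nX ((c g).2.1 z.2)) (inv_mem ha))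
      · exact (cj g X).mul_mem (conj_mem ((c g).2.2 (hX ha)) z.2) ((cj g X).inv_mem z.2)⟩
    by_contra ne
    exact h0 (nn X hX nX (ih _ (hK ▸ lt_of_le_of_ne (card_le_of_le hX) fun e => ne (eq_of_le_of_card_ge hX e.ge)) G X rfl (h.mono hX)))
  have : Nontrivial K := (nontrivial_iff_ne_bot K).2 fun e => hn (n2_of_odd (O := ⊥) (by simp) fun a ha _ => e ▸ ha)
  have : IsSimpleGroup K := ⟨fun Y hY => or_iff_not_imp_left.2 fun h0 => by
    have := mn (Y.map K.subtype) (map_subtype_le _) (le_normalizer_map_subtype Y)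
      (fun e => h0 ((map_eq_bot_iff_of_injective _ K.subtype_injective).1 e))
    exact map_injective K.subtype_injective (this.trans (by rw [← MonoidHom.range_eq_map, range_subtype]))⟩
  obtain ⟨w, w1, w2, w3⟩ := hS K (fun hc => hn fun a ha b hb o1 o2 => (o1.mul o2).of_dvd_nat
    (Commute.orderOf_mul_dvd_mul_orderOf (congrArg Subtype.val (hc.1.1 ⟨a, ha⟩ ⟨b, hb⟩)))) fun t ht a ha b hb o1 o2 => by
    rw [← Subgroup.orderOf_coe] at ht o1 o2 ⊢
    exact h.1 t ht a ⟨a.2, mem_centralizer_singleton_iff.2 (congrArg Subtype.val (mem_centralizer_singleton_iff.1 ha))⟩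
      b ⟨b.2, mem_centralizer_singleton_iff.2 (congrArg Subtype.val (mem_centralizer_singleton_iff.1 hb))⟩ o1 o2
  obtain ⟨φ, o, c⟩ := h.2 w w.2 ⟨orderOf w, 1, w1, fun e => absurd (e ▸ w2) (by decide), by
    rw [pow_one, ← Subgroup.orderOf_coe, pow_orderOf_eq_one]⟩
  refine w3 (MulAut.conjNormal φ) (by rw [← map_mul, ← pow_two, ← o, pow_orderOf_eq_one, map_one])
    (Subtype.ext (mul_inv_eq_iff_eq_mul.2 c)) fun a ha b hb o1 o2 => ?_
  rw [← Subgroup.orderOf_coe] at o1 o2 ⊢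
  have m : ∀ a : K, a ∈ Fix (MulAut.conjNormal φ) → (a : G) ∈ K ⊓ centralizer {φ} := fun a ha =>
    ⟨a.2, mem_centralizer_singleton_iff.2 (mul_inv_eq_iff_eq_mul.1 (congrArg Subtype.val (mem_Fix.1 ha))).symm⟩
  exact h.1 φ o a (m a ha) b (m b hb) o1 o2

end CL.PC2
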